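import Groth.Prelude.Def_CInt
import Groth.Prelude.Def_RegImm
import Groth.Agent.S2166
import Groth.Agent.EGA4Lib.AdicFibres
import Groth.Agent.Synt44.CIEquiv

/-!
# Complete intersection local rings: invariance and comparison with `Synt.IsCIOver`
-/

set_option autoImplicit false
set_option linter.style.haveILetI false

universe u

open IsLocalRing

namespace Groth.Agent.CIntCI

/-- Complete intersection is invariant under ring isomorphism. -/
theorem isCI_of_ringEquiv {A B : Type u} [CommRing A] [CommRing B] [IsLocalRing A] [IsLocalRing B]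
    (e : A ≃+* B) (h : Pi1.IsCompleteIntersection A) : Pi1.IsCompleteIntersection B := by
  obtain ⟨C, i, j, rs, h1, h2, ⟨φ⟩⟩ := h
  letI : Algebra A B := e.toRingHom.toAlgebra
  have hm : (maximalIdeal A).map e.toRingHom = maximalIdeal B :=
    ((eq_maximalIdeal (Ideal.map_isMaximal_of_equiv e (p := maximalIdeal A))))
  obtain ⟨ψ⟩ := EGA4Lib.nonempty_adicCompletion_congr (R := A) (S := B) (maximalIdeal A) (maximalIdeal B)
    (fun k x => ⟨e.symm x, by simp [RingHom.algebraMap_toAlgebra]⟩)
    (fun k a => by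
      rw [← hm, ← Ideal.map_pow]
      have hc := Ideal.comap_map_of_bijective e.toRingHom e.bijective (I := maximalIdeal A ^ k)
      exact (SetLike.ext_iff.1 hc a))
  exact ⟨C, i, j, rs, h1, h2, ⟨ψ.toRingEquiv.trans φ⟩⟩

theorem isCI_iff_of_ringEquiv {A B : Type u} [CommRing A] [CommRing B] [IsLocalRing A] [IsLocalRing B]
    (e : A ≃+* B) : Pi1.IsCompleteIntersection A ↔ Pi1.IsCompleteIntersection B :=
  ⟨isCI_of_ringEquiv e, isCI_of_ringEquiv e.symm⟩

/-- For local algebras essentially of finite type over a field, the absolute and relative notions of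
complete intersection agree. -/
theorem isCI_iff_isCIOver (k S : Type u) [Field k] [CommRing S] [IsLocalRing S] [Algebra k S]
    [Algebra.EssFiniteType k S] : Pi1.IsCompleteIntersection S ↔ Synt.IsCIOver k S := by
  constructor
  · intro h
    obtain ⟨R, _, _, _, π, hR, hπ⟩ := Synt44.exists_regular_cover k S
    haveI : IsLocalRing (R ⧸ RingHom.ker π) :=
      (Ideal.quotientKerAlgEquivOfSurjective hπ).symm.toRingEquiv.isLocalRing
    have hI : RingHom.ker π ≠ ⊤ := RingHom.ker_ne_top π
    obtain ⟨rs, hrs, hreg⟩ := (S2166.result (RingHom.ker π) hI).1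
      (isCI_of_ringEquiv (Ideal.quotientKerAlgEquivOfSurjective hπ).symm.toRingEquiv h)
    refine ⟨R, inferInstance, inferInstance, inferInstance, hR, rs, fun r hr => ?_, hreg, ⟨?_⟩⟩
    · exact le_maximalIdeal hI (hrs ▸ Ideal.subset_span hr)
    · exact (Ideal.quotientKerAlgEquivOfSurjective hπ).symm.trans (Ideal.quotientEquivAlgOfEq k hrs.symm)
  · rintro ⟨R, _, _, _, -, rs, hmem, hreg, ⟨e⟩⟩
    haveI : IsLocalRing (R ⧸ Ideal.ofList rs) := e.toRingEquiv.isLocalRing
    have hI : Ideal.ofList rs ≠ ⊤ := fun h => (maximalIdeal.isMaximal R).ne_top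
      (top_le_iff.1 (h ▸ Ideal.span_le.2 hmem))
    exact isCI_of_ringEquiv e.symm.toRingEquiv ((S2166.result (Ideal.ofList rs) hI).2 ⟨rs, rfl, hreg⟩)

end Groth.Agent.CIntCI
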