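import Groth.Agent.CIntCI.TransReg
import Groth.Agent.CIntCI.Basic
import Groth.Agent.CIntPres.Basic
import Groth.Agent.RegImm38.Seq
import Groth.Agent.RegLoc.H1Seq
import Groth.Agent.SymGr.Regular
import Groth.Agent.LCI.Vasconcelos
import Groth.Agent.FlatOpen.SliceSeq
import Groth.Agent.S2166
import Mathlib.RingTheory.TensorProduct.Quotient

/-!
# Regular sequences and the closed fibre, without Noetherian hypotheses on the base

* `isWeaklyRegular_fibRing`: a regular sequence with flat quotient stays regular on a Noetherian closed fibre.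
* `isCI_fibre_iff`: the fibre of a flat quotient is CI iff the ideal is cut out by a regular sequence there.
* `exists_lifts`: fibre generators of `I` lift to local generators of `I`.
* `exists_away_regular`: a sequence regular on the fibre at `Q` is regular near `Q`.
-/

set_option autoImplicit false
set_option linter.style.haveILetI false

universe u

open IsLocalRing TensorProduct RingTheory.Sequence

namespace Groth.Agent.CIntCI

section Local

variable {A C : Type u} [CommRing A] [IsLocalRing A] [CommRing C] [IsLocalRing C] [Algebra A C]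
  [IsLocalHom (algebraMap A C)]

/-- A regular sequence with flat quotient is regular on a Noetherian closed fibre. -/
theorem isWeaklyRegular_fibRing [IsNoetherianRing (EGA4.FibRing A C)] (rs : List C)
    (hrs : IsWeaklyRegular C rs) (hm : ∀ r ∈ rs, r ∈ maximalIdeal C)
    [Module.Flat A (C ⧸ Ideal.ofList rs)] :
    IsWeaklyRegular (EGA4.FibRing A C) (rs.map (Ideal.Quotient.mk (EGA4.mB A C))) := by
  obtain ⟨c, a, rfl⟩ : ∃ (c : ℕ) (a : Fin c → C), rs = List.ofFn a := ⟨_, _, (List.ofFn_get rs).symm⟩
  have hspan : Ideal.ofList (List.ofFn a) = Ideal.span (Set.range a) := by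
    rw [Ideal.ofList]
    congr 1
    ext x
    simp [List.mem_ofFn]
  have hH1 : CAlgX.IsH1Regular a := fun m hm0 => by
    have h := CIntPres.mem_trivRel_of_isWeaklyRegular a hrs m (by
      rw [← hm0]
      exact Finset.sum_congr rfl fun i _ => mul_comm _ _)
    refine Submodule.span_le.2 ?_ h
    rintro v ⟨i, j, x, rfl⟩
    have hv : a j • (Pi.single i x : Fin c → C) - a i • (Pi.single j x : Fin c → C) =
        x • ((Pi.single i (a j) : Fin c → C) - Pi.single j (a i)) := by
      rw [smul_sub, ← Pi.single_smul, ← Pi.single_smul, ← Pi.single_smul, ← Pi.single_smul]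
      simp only [smul_eq_mul, mul_comm]
    rw [SetLike.mem_coe, hv]
    exact Submodule.smul_mem _ x (Submodule.subset_span ⟨i, j, rfl⟩)
  haveI : Module.Flat A (C ⧸ Ideal.span (Set.range a)) := hspan ▸ inferInstance
  have hH1' := RegImm38.isH1Regular_baseChange a A (A ⧸ maximalIdeal A) hH1
  have hH1'' : CAlgX.IsH1Regular (fun i => Ideal.Quotient.mk (EGA4.mB A C) (a i)) := by
    have h := RegImm38.isH1Regular_of_ringEquiv (f := fun i => ((1 : A ⧸ maximalIdeal A) ⊗ₜ[A] a i))
      (Algebra.TensorProduct.quotIdealMapEquivQuotTensor C (maximalIdeal A)).symm.toRingEquiv hH1'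
    refine (show (fun i => Ideal.Quotient.mk (EGA4.mB A C) (a i)) = _ from funext fun i => ?_) ▸ h
    exact ((Algebra.TensorProduct.quotIdealMapEquivQuotTensor C (maximalIdeal A)).symm_apply_eq.2
      (Algebra.TensorProduct.quotIdealMapEquivQuotTensor_mk C (maximalIdeal A) (a i)).symm).symm
  rw [List.map_ofFn]
  refine SymGr.Regular.isWeaklyRegular_of_isQuasiRegular c _ (fun i => ?_)
    (RegLoc.H1Seq.isQuasiRegular _ hH1'')
  rw [← Ideal.jacobson_bot, IsLocalRing.jacobson_eq_maximalIdeal ⊥ bot_ne_top, IsLocalRing.mem_maximalIdeal,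
    mem_nonunits_iff]
  intro hu
  replace hu : IsUnit (Ideal.Quotient.mk (EGA4.mB A C) (a i)) := hu
  have hu' : IsUnit (a i) := by
    obtain ⟨v, hv⟩ := hu.exists_right_inv
    obtain ⟨v, rfl⟩ := Ideal.Quotient.mk_surjective v
    rw [← map_mul, ← map_one (Ideal.Quotient.mk (EGA4.mB A C)), Ideal.Quotient.eq] at hv
    have h1 : a i * v - 1 ∈ maximalIdeal C := IsLocalRing.map_maximalIdeal_le (algebraMap A C) hv
    by_contra hna
    have h2 : a i * v ∈ maximalIdeal C := Ideal.mul_mem_right _ _ ((IsLocalRing.mem_maximalIdeal _).2 hna)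
    have h3 := Ideal.sub_mem _ h2 h1
    rw [sub_sub_cancel] at h3
    exact (maximalIdeal.isMaximal C).ne_top ((Ideal.eq_top_iff_one _).2 h3)
  exact (IsLocalRing.mem_maximalIdeal _).1 (hm _ (List.mem_ofFn.2 ⟨i, rfl⟩)) hu'

/-- CI of the closed fibre of a quotient `B` of `C`. -/
theorem isCI_fibre_iff [IsRegularLocalRing (EGA4.FibRing A C)] {B : Type u} [CommRing B] [IsLocalRing B]
    (φ : C →+* B) (hφ : Function.Surjective φ)
    [IsLocalRing (B ⧸ (maximalIdeal A).map (φ.comp (algebraMap A C)))] :
    Pi1.IsCompleteIntersection (B ⧸ (maximalIdeal A).map (φ.comp (algebraMap A C))) ↔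
      ∃ ys : List (EGA4.FibRing A C), Ideal.ofList ys = (RingHom.ker φ).map (Ideal.Quotient.mk (EGA4.mB A C)) ∧
        IsRegular (EGA4.FibRing A C) ys := by
  let J : Ideal C := RingHom.ker φ
  let mk := Ideal.Quotient.mk (EGA4.mB A C)
  let π : C →+* B ⧸ (maximalIdeal A).map (φ.comp (algebraMap A C)) := (Ideal.Quotient.mk _).comp φ
  have hπ : Function.Surjective π := Ideal.Quotient.mk_surjective.comp hφ
  have hkπ : RingHom.ker π = EGA4.mB A C ⊔ J := by
    rw [← RingHom.comap_ker, Ideal.mk_ker,
      show (maximalIdeal A).map (φ.comp (algebraMap A C)) = (EGA4.mB A C).map φ by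
        rw [EGA4.mB, Ideal.map_map],
      Ideal.comap_map_of_surjective' _ hφ]
  let ef : (EGA4.FibRing A C ⧸ J.map mk) ≃+* B ⧸ (maximalIdeal A).map (φ.comp (algebraMap A C)) :=
    (DoubleQuot.quotQuotEquivQuotSup (EGA4.mB A C) J).trans
      ((Ideal.quotEquivOfEq hkπ.symm).trans (RingHom.quotientKerEquivOfSurjective hπ))
  haveI : IsLocalRing (EGA4.FibRing A C ⧸ J.map mk) := ef.symm.isLocalRing
  have hne : J.map mk ≠ ⊤ := fun h =>
    not_subsingleton (EGA4.FibRing A C ⧸ J.map mk) (Ideal.Quotient.subsingleton_iff.2 h)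
  exact (isCI_iff_of_ringEquiv ef.symm).trans (Groth.Agent.S2166.result (J.map mk) hne)

omit [IsLocalHom (algebraMap A C)] in
/-- Nakayama for an ideal with flat quotient. -/
theorem eq_of_flat_quotient_fg [IsLocalHom (algebraMap A C)] {J K : Ideal C} (hfg : J.FG) (hKJ : K ≤ J)
    (hJ : J ≤ EGA4.mB A C ⊔ K) [Module.Flat A (C ⧸ J)] : K = J := by
  refine le_antisymm hKJ (Submodule.le_of_le_smul_of_le_jacobson_bot (I := EGA4.mB A C) hfg ?_ fun x hx => ?_)
  · rw [IsLocalRing.jacobson_eq_maximalIdeal ⊥ bot_ne_top]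
    exact IsLocalRing.map_maximalIdeal_le (algebraMap A C)
  · obtain ⟨y, hy, z, hz, rfl⟩ := Submodule.mem_sup.1 (hJ hx)
    have hyJ : y ∈ J := by
      have := J.sub_mem hx (hKJ hz)
      simpa using this
    have h := NilFree.inf_smul_top_le_smul_of_flat (R := A) (J.mkQ.restrictScalars A) J.mkQ_surjective
      (maximalIdeal A) (x := y) ⟨(Submodule.Quotient.mk_eq_zero J).2 hyJ, by
        rw [Ideal.smul_top_eq_map]; exact hy⟩
    refine Submodule.mem_sup.2 ⟨z, hz, y, ?_, add_comm z y⟩
    refine Submodule.smul_induction_on h (fun r hr w hw => ?_) fun u v hu hv => add_mem hu hv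
    rw [Algebra.smul_def r w]
    exact Ideal.mul_mem_mul (Ideal.mem_map_of_mem (algebraMap A C) hr) ((Submodule.Quotient.mk_eq_zero J).1 hw)

end Local

section Spread

variable {R S A C : Type u} [CommRing R] [CommRing S] [Algebra R S] [CommRing A] [IsLocalRing A]
  [CommRing C] [IsLocalRing C] [Algebra A C] [IsLocalHom (algebraMap A C)] [Algebra S C] [Algebra R A]
  [Algebra R C] [IsScalarTower R S C] [IsScalarTower R A C]

/-- Regular fibre generators of a finitely generated ideal with flat quotient lift to generators after one localization. -/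
theorem exists_lifts (Q : Ideal S) [Q.IsPrime] [IsLocalization.AtPrime C Q] (I : Ideal S) (hI : I.FG)
    [Module.Flat A (C ⧸ I.map (algebraMap S C))] (ys : List (EGA4.FibRing A C))
    (hys : Ideal.ofList ys = (I.map (algebraMap S C)).map (Ideal.Quotient.mk (EGA4.mB A C)))
    (hreg : IsWeaklyRegular (EGA4.FibRing A C) ys) :
    ∃ bs : List S, Ideal.ofList bs ≤ I ∧ (∃ h ∉ Q, ∀ x ∈ I, h * x ∈ Ideal.ofList bs) ∧
      IsWeaklyRegular (EGA4.FibRing A C)
        (bs.map fun b => Ideal.Quotient.mk (EGA4.mB A C) (algebraMap S C b)) := by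
  classical
  let mk := Ideal.Quotient.mk (EGA4.mB A C)
  have hlift : ∀ y ∈ ys, ∃ b ∈ I, ∃ v : EGA4.FibRing A C, IsUnit v ∧ mk (algebraMap S C b) = v * y := by
    intro y hy
    have hy' : y ∈ Ideal.ofList ys := Ideal.subset_span hy
    rw [hys] at hy'
    obtain ⟨t, htJ, rfl⟩ := (Ideal.mem_map_iff_of_surjective mk Ideal.Quotient.mk_surjective).1 hy'
    obtain ⟨⟨⟨b, hb⟩, s⟩, hbs⟩ := (IsLocalization.mem_map_algebraMap_iff Q.primeCompl C).1 htJ
    refine ⟨b, hb, mk (algebraMap S C s), (IsLocalization.map_units C s).map mk, ?_⟩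
    rw [← map_mul, ← hbs, mul_comm]
  choose! b hbI v hv hbv using hlift
  let bs := ys.map b
  have hbsI : Ideal.ofList bs ≤ I := Ideal.span_le.2 fun x hx => by
    obtain ⟨y, hy, rfl⟩ := List.mem_map.1 hx
    exact hbI y hy
  have hreg' : IsWeaklyRegular (EGA4.FibRing A C) (bs.map fun b => mk (algebraMap S C b)) := by
    refine LCI.Vasconcelos.isWeaklyRegular_of_unit_mul ys _ (EGA4.FibRing A C) ?_ hreg
    simp only [bs, List.map_map, List.forall₂_map_right_iff, List.forall₂_same]
    exact fun y hy => ⟨v y, hv y hy, hbv y hy⟩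
  have heq : (Ideal.ofList bs).map (algebraMap S C) = I.map (algebraMap S C) := by
    refine eq_of_flat_quotient_fg (A := A) (hI.map _) (Ideal.map_mono hbsI) fun x hx => ?_
    have h1 : mk x ∈ ((Ideal.ofList bs).map (algebraMap S C)).map mk := by
      have h2 : mk x ∈ Ideal.ofList ys := hys ▸ Ideal.mem_map_of_mem mk hx
      refine Ideal.span_le.2 (fun y hy => ?_) h2
      obtain ⟨w, hw⟩ := (hv y hy).exists_left_inv
      have h3 : mk (algebraMap S C (b y)) ∈ ((Ideal.ofList bs).map (algebraMap S C)).map mk :=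
        Ideal.mem_map_of_mem _ (Ideal.mem_map_of_mem _ (Ideal.subset_span (List.mem_map_of_mem hy)))
      have h4 := Ideal.mul_mem_left _ w h3
      rwa [hbv y hy, ← mul_assoc, hw, one_mul] at h4
    rwa [← Ideal.mem_comap, Ideal.comap_map_quotientMk] at h1
  obtain ⟨G, hG⟩ := hI
  have hG' : ∀ x ∈ G, ∃ t, t ∉ Q ∧ t * x ∈ Ideal.ofList bs := fun x hx => by
    obtain ⟨t, ht, h⟩ := (IsLocalization.algebraMap_mem_map_algebraMap_iff Q.primeCompl C _ x).1
      (heq.ge (Ideal.mem_map_of_mem _ (hG ▸ Ideal.subset_span hx)))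
    exact ⟨t, ht, h⟩
  choose! t htQ htx using hG'
  refine ⟨bs, hbsI, ⟨∏ x ∈ G, t x, fun hQ => ?_, fun x hx => ?_⟩, hreg'⟩
  · obtain ⟨x, hx, hxQ⟩ := Ideal.IsPrime.prod_mem_iff.1 hQ
    exact htQ x hx hxQ
  · rw [← hG] at hx
    induction hx using Submodule.span_induction with
    | mem x hx =>
      obtain ⟨d, hd⟩ := Finset.dvd_prod_of_mem t hx
      rw [hd, show t x * d * x = d * (t x * x) by ring]
      exact Ideal.mul_mem_left _ _ (htx x hx)
    | zero => rw [mul_zero]; exact zero_mem _
    | add x y _ _ h1 h2 => rw [mul_add]; exact add_mem h1 h2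
    | smul r x _ h1 => rw [smul_eq_mul, mul_left_comm]; exact Ideal.mul_mem_left _ _ h1

/-- A sequence regular on the closed fibre at `Q` is regular after inverting an element outside `Q`. -/
theorem exists_away_regular [Algebra.FinitePresentation R S] [Module.Flat A C] (Q : Ideal S) [Q.IsPrime]
    [IsLocalization.AtPrime C Q] [IsLocalization.AtPrime A (Q.comap (algebraMap R S))] (bs : List S)
    (hreg : IsWeaklyRegular (EGA4.FibRing A C)
      (bs.map fun b => Ideal.Quotient.mk (EGA4.mB A C) (algebraMap S C b))) :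
    ∃ g ∉ Q, ∀ (S' : Type u) [CommRing S'] [Algebra S S'] [Algebra R S'] [IsScalarTower R S S']
      [IsLocalization.Away g S'], IsWeaklyRegular S' (bs.map (algebraMap S S')) := by
  let I := (Q.comap (algebraMap R S)).map (algebraMap R S)
  let mk := Ideal.Quotient.mk (EGA4.mB A C)
  have hIC : I.map (algebraMap S C) = EGA4.mB A C := by
    rw [Ideal.map_map, ← IsScalarTower.algebraMap_eq, IsScalarTower.algebraMap_eq R A C, ← Ideal.map_map,
      IsLocalization.AtPrime.map_eq_maximalIdeal (Q.comap (algebraMap R S)) A]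
  have hflat : FlatCA.FlatAt R Q S := by
    haveI : Module.Flat R A := IsLocalization.flat A (Q.comap (algebraMap R S)).primeCompl
    haveI : Module.Flat R C := Module.Flat.trans R A C
    exact Module.Flat.of_linearEquiv
      ((IsLocalizedModule.iso Q.primeCompl (Algebra.linearMap S C)).restrictScalars R)
  obtain ⟨g, hgQ, hg⟩ := FlatOpen.exists_slice_seq (R := R) Q hflat bs fun k hk m hm => by
    have hk' : k < (bs.map fun b => mk (algebraMap S C b)).length := by rwa [List.length_map]
    have hext : (I ⊔ Ideal.ofList (bs.take k)).map (algebraMap S C) =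
        EGA4.mB A C ⊔ Ideal.ofList ((bs.take k).map (algebraMap S C)) := by
      rw [Ideal.map_sup, hIC, Ideal.map_ofList]
    have hpre : Ideal.ofList ((bs.map fun b => mk (algebraMap S C b)).take k) =
        (Ideal.ofList ((bs.take k).map (algebraMap S C))).map mk := by
      rw [Ideal.map_ofList, ← List.map_take, List.map_map]
      rfl
    have hmem : ∀ c : C, mk c ∈ Ideal.ofList ((bs.map fun b => mk (algebraMap S C b)).take k) ↔
        c ∈ (I ⊔ Ideal.ofList (bs.take k)).map (algebraMap S C) := fun c => by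
      rw [hpre, hext, ← Ideal.mem_comap, Ideal.comap_map_quotientMk]
    have h1 := (hmem _).2 (Ideal.mem_map_of_mem (algebraMap S C) hm)
    rw [map_mul, map_mul] at h1
    have h2 := hreg.regular_mod_prev k hk'
    simp only [List.getElem_map] at h2
    have h3 := h2 (a₁ := Submodule.Quotient.mk (mk (algebraMap S C m))) (a₂ := 0) (by
      show mk (algebraMap S C bs[k]) • Submodule.Quotient.mk _ = mk (algebraMap S C bs[k]) • 0
      rw [smul_zero, ← Submodule.Quotient.mk_smul, Submodule.Quotient.mk_eq_zero, smul_eq_mul, smul_eq_mul,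
        ← Ideal.one_eq_top, mul_one]
      exact h1)
    rw [Submodule.Quotient.mk_eq_zero, smul_eq_mul, ← Ideal.one_eq_top, mul_one, hmem] at h3
    obtain ⟨s, hs, h⟩ := (IsLocalization.algebraMap_mem_map_algebraMap_iff Q.primeCompl C _ m).1 h3
    exact ⟨s, hs, h⟩
  exact ⟨g, hgQ, fun S' _ _ _ _ _ => (hg S').1⟩

end Spread

end Groth.Agent.CIntCI
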