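import Groth.Agent.CIntCI.Basic
import Groth.Agent.CIntReg.Main
import Groth.Agent.Gor.LCI
import Groth.Agent.Hensel.Completion
import Groth.Agent.Synt44.CILocal
import Groth.Agent.RegLoc.Homological
import Mathlib.RingTheory.Regular.Flat
import Mathlib.RingTheory.RingHom.Flat
import Mathlib.RingTheory.TensorProduct.MvPolynomial
import Mathlib.RingTheory.RegularLocalRing.Polynomial

/-!
# Ascent of complete intersections

* `isCI_of_regular_quotient`: quotient of a CI local ring by a regular sequence.
* `isCI_iff_of_unramified`: flat local map with `m_A B = m_B` and trivial residue extension.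
* `isCI_polynomial`: localisations of `A[x]` over the closed point of a CI local ring `A`.
-/

set_option autoImplicit false
set_option linter.style.haveILetI false

universe u

open IsLocalRing RingTheory.Sequence

namespace Groth.Agent.CIntCI

theorem isCI_of_regular_quotient {C : Type u} [CommRing C] [IsLocalRing C] [IsNoetherianRing C]
    (h : Pi1.IsCompleteIntersection C) (rs : List C) (hrs : IsRegular C rs)
    [IsLocalRing (C ⧸ Ideal.ofList rs)] : Pi1.IsCompleteIntersection (C ⧸ Ideal.ofList rs) := by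
  obtain ⟨R, _, _, gs, hgs, hgreg, ⟨φ⟩⟩ := h
  let T := AdicCompletion (maximalIdeal C) C
  haveI : IsNoetherianRing T :=
    RegLoc.AdicNoeth.isNoetherianRing_adicCompletion _ (IsNoetherian.noetherian (maximalIdeal C))
  let J := Ideal.span {r | r ∈ gs}
  let α : C →+* R ⧸ J := φ.toRingHom.comp (algebraMap C T)
  let M : Ideal (R ⧸ J) := (Ideal.ofList rs).map α
  let K : Ideal R := M.comap (Ideal.Quotient.mk J)
  haveI : IsLocalRing (R ⧸ J) := φ.isLocalRing
  haveI : IsLocalHom α := by
    have h1 : IsLocalHom (algebraMap C T) := inferInstance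
    exact ⟨fun a ha => h1.map_nonunit a ((isUnit_map_iff φ _).1 ha)⟩
  have hM : M ≤ maximalIdeal (R ⧸ J) := by
    rw [Ideal.map_le_iff_le_comap]
    refine Ideal.span_le.2 fun r hr => ?_
    exact map_nonunit α r (CIntReg.mem_maximalIdeal_of_mem hrs hr)
  have hK : K ≤ maximalIdeal R := IsLocalRing.le_maximalIdeal fun htop => by
    have : (1 : R ⧸ J) ∈ M := by
      have h1 : (1 : R) ∈ K := htop ▸ Submodule.mem_top
      simpa [K] using h1
    exact (maximalIdeal.isMaximal _).ne_top ((Ideal.eq_top_iff_one _).2 (hM this))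
  have hw : IsWeaklyRegular (R ⧸ J) (rs.map α) := by
    have h1 : IsWeaklyRegular T (rs.map (algebraMap C T)) := hrs.toIsWeaklyRegular.of_flat
    have h2 := Synt44.isWeaklyRegular_map_ringEquiv φ h1
    rw [List.map_map] at h2
    exact h2
  have hreg : CInt.IsRegularIdeal (K.map (Ideal.Quotient.mk J)) := by
    rw [Ideal.map_comap_of_surjective _ Ideal.Quotient.mk_surjective]
    refine ⟨rs.map α, .of_isWeaklyRegular_of_mem_maximalIdeal _ (fun x hx => ?_) hw,
      (Ideal.map_ofList α rs).symm⟩
    obtain ⟨r, hr, rfl⟩ := List.mem_map.1 hx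
    exact map_nonunit α r (CIntReg.mem_maximalIdeal_of_mem hrs hr)
  have hJK : J ≤ K := fun x hx => by
    show Ideal.Quotient.mk J x ∈ M
    rw [Ideal.Quotient.eq_zero_iff_mem.2 hx]
    exact zero_mem _
  obtain ⟨ts, -, hts, hsup⟩ := CIntReg.exists_lift hJK hK hreg
  obtain ⟨rs', hrs', hrsK⟩ := CIntReg.isRegularIdeal_of_lift hK ⟨gs, hgreg, rfl⟩ hts hsup
  haveI : Nontrivial (C ⧸ Ideal.ofList rs) := inferInstance
  obtain ⟨e₁⟩ := Hensel.nonempty_quotient_completion_equiv C (Ideal.ofList rs)
  let e₂ : T ⧸ (Ideal.ofList rs).map (algebraMap C T) ≃+* (R ⧸ J) ⧸ M :=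
    Ideal.quotientEquiv _ _ φ (by rw [Ideal.map_map]; rfl)
  let e₃ : (R ⧸ J) ⧸ M ≃+* R ⧸ K := by
    refine (RingEquiv.symm ?_)
    exact (Ideal.quotEquivOfEq (by
      rw [← RingHom.comap_ker, Ideal.mk_ker])).trans
      (RingHom.quotientKerEquivOfSurjective (f := (Ideal.Quotient.mk M).comp (Ideal.Quotient.mk J))
        (Ideal.Quotient.mk_surjective.comp Ideal.Quotient.mk_surjective))
  refine ⟨R, inferInstance, inferInstance, rs', fun r hr => hK (hrsK ▸ Ideal.subset_span hr), hrs', ⟨?_⟩⟩
  exact ((e₁.trans e₂).trans e₃).trans (Ideal.quotEquivOfEq hrsK.symm)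

section Unramified

variable {A B : Type u} [CommRing A] [CommRing B] [IsLocalRing A] [IsLocalRing B] [Algebra A B]
  [Module.Flat A B] [IsLocalHom (algebraMap A B)]

theorem nonempty_completion_equiv_of_unramified
    (hmax : (maximalIdeal A).map (algebraMap A B) = maximalIdeal B)
    (hres : ∀ x : B, ∃ a : A, x - algebraMap A B a ∈ maximalIdeal B) :
    Nonempty (AdicCompletion (maximalIdeal B) B ≃ₐ[A] AdicCompletion (maximalIdeal A) A) := by
  haveI : Module.FaithfullyFlat A B := Module.FaithfullyFlat.of_flat_of_isLocalHom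
  refine EGA4Lib.nonempty_adicCompletion_congr _ _ (fun k x => ?_) fun k a => ?_
  · induction k generalizing x with
    | zero => exact ⟨0, by simp⟩
    | succ k ih =>
      obtain ⟨a, ha⟩ := ih x
      have hpow : maximalIdeal B ^ k = (maximalIdeal A ^ k).map (algebraMap A B) := by
        rw [Ideal.map_pow, hmax]
      rw [hpow, Ideal.map, Submodule.mem_span_set'] at ha
      obtain ⟨l, b, g, hg⟩ := ha
      choose c hc hcg using fun i => (g i).2
      choose a' ha' using fun i => hres (b i)
      refine ⟨a + ∑ i, a' i * c i, ?_⟩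
      rw [map_add, map_sum, ← sub_sub, ← hg, ← Finset.sum_sub_distrib]
      refine Ideal.sum_mem _ fun i _ => ?_
      rw [← hcg i, smul_eq_mul, map_mul, ← sub_mul, pow_succ']
      refine Ideal.mul_mem_mul (ha' i) ?_
      rw [hpow]
      exact Ideal.mem_map_of_mem _ (hc i)
  · rw [← hmax, ← Ideal.map_pow]
    exact SetLike.ext_iff.1 (Ideal.comap_map_eq_self_of_faithfullyFlat (B := B) (maximalIdeal A ^ k)) a

theorem isCI_iff_of_unramified
    (hmax : (maximalIdeal A).map (algebraMap A B) = maximalIdeal B)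
    (hres : ∀ x : B, ∃ a : A, x - algebraMap A B a ∈ maximalIdeal B) :
    Pi1.IsCompleteIntersection B ↔ Pi1.IsCompleteIntersection A := by
  obtain ⟨ψ⟩ := nonempty_completion_equiv_of_unramified hmax hres
  constructor
  · rintro ⟨R, i, j, rs, h1, h2, ⟨φ⟩⟩
    exact ⟨R, i, j, rs, h1, h2, ⟨ψ.symm.toRingEquiv.trans φ⟩⟩
  · rintro ⟨R, i, j, rs, h1, h2, ⟨φ⟩⟩
    exact ⟨R, i, j, rs, h1, h2, ⟨ψ.toRingEquiv.trans φ⟩⟩

end Unramified

open MvPolynomial

/-- Localisations of a polynomial ring over `R ⧸ (gs)`, `R` regular local and `gs` regular. -/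
theorem isCI_polynomial_quotient {R A : Type u} [CommRing R] [IsRegularLocalRing R] [CommRing A]
    (gs : List R) (hgreg : IsRegular R gs) (π : R →+* A) (hπ : Function.Surjective π)
    (hker : RingHom.ker π = Ideal.ofList gs) (n : ℕ) (P : Ideal (MvPolynomial (Fin n) A)) [P.IsPrime] :
    Pi1.IsCompleteIntersection (Localization.AtPrime P) := by
  haveI : IsRegularRing R := RegLoc.Homological.isRegularRing
  let S := MvPolynomial (Fin n) R
  let μ : S →+* MvPolynomial (Fin n) A := MvPolynomial.map π
  have hμ : Function.Surjective μ := MvPolynomial.map_surjective π hπ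
  have hkμ : RingHom.ker μ = (Ideal.ofList gs).map (algebraMap R S) := by
    rw [MvPolynomial.ker_map, hker]
    rfl
  let I := RingHom.ker μ
  let e : S ⧸ I ≃+* MvPolynomial (Fin n) A := RingHom.quotientKerEquivOfSurjective hμ
  let q : Ideal (S ⧸ I) := P.comap e.toRingHom
  haveI : q.IsPrime := inferInstanceAs (P.comap e.toRingHom).IsPrime
  let Q := q.comap (Ideal.Quotient.mk I)
  let RQ := Localization.AtPrime Q
  haveI : IsLocalization.AtPrime (RQ ⧸ I.map (algebraMap S RQ)) q :=
    Gor.LCI.isLocalization_quotient_atPrime I q RQ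
  let e' : Localization.AtPrime P ≃+* RQ ⧸ I.map (algebraMap S RQ) :=
    (IsLocalization.ringEquivOfRingEquiv (M := P.primeCompl) (T := q.primeCompl)
      (Localization.AtPrime P) (RQ ⧸ I.map (algebraMap S RQ)) e.symm (by
        ext x
        constructor
        · rintro ⟨y, hy, rfl⟩ hm
          exact hy (by simpa [q] using hm)
        · intro hx
          exact ⟨e x, fun hm => hx hm, e.symm_apply_apply x⟩))
  haveI : IsLocalRing (RQ ⧸ I.map (algebraMap S RQ)) := e'.isLocalRing
  have hne : I.map (algebraMap S RQ) ≠ ⊤ := fun h =>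
    not_subsingleton (RQ ⧸ I.map (algebraMap S RQ)) (Ideal.Quotient.subsingleton_iff.2 h)
  have hIR : I.map (algebraMap S RQ) = (Ideal.ofList gs).map (algebraMap R RQ) := by
    rw [IsScalarTower.algebraMap_eq R S RQ, ← Ideal.map_map]
    exact congrArg (Ideal.map (algebraMap S RQ)) hkμ
  refine (isCI_iff_of_ringEquiv e').2 ((S2166.result _ hne).2 ⟨gs.map (algebraMap R RQ), ?_, ?_⟩)
  · rw [← Ideal.map_ofList, hIR]
  · haveI : Module.Flat R RQ := Module.Flat.trans R S RQ
    refine .of_isWeaklyRegular_of_mem_maximalIdeal _ (fun x hx => ?_) hgreg.toIsWeaklyRegular.of_flat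
    refine IsLocalRing.le_maximalIdeal hne ?_
    rw [hIR, Ideal.map_ofList]
    exact Ideal.subset_span hx

/-- Localisations of `A[x]` at primes over the closed point of a CI local ring are CI. -/
theorem isCI_polynomial {A : Type u} [CommRing A] [IsLocalRing A] [IsNoetherianRing A]
    (h : Pi1.IsCompleteIntersection A) (n : ℕ) (P : Ideal (MvPolynomial (Fin n) A)) [P.IsPrime]
    (hP : maximalIdeal A ≤ P.comap C) :
    Pi1.IsCompleteIntersection (Localization.AtPrime P) := by
  classical
  let T := AdicCompletion (maximalIdeal A) A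
  haveI : IsNoetherianRing T :=
    RegLoc.AdicNoeth.isNoetherianRing_adicCompletion _ (IsNoetherian.noetherian (maximalIdeal A))
  obtain ⟨R, _, _, gs, hgs, hgreg, ⟨φ⟩⟩ := h
  letI := MvPolynomial.algebraMvPolynomial (σ := Fin n) (R := A) (S := T)
  let ι : MvPolynomial (Fin n) A →+* MvPolynomial (Fin n) T := MvPolynomial.map (algebraMap A T)
  let D := MvPolynomial (Fin n) A ⧸ P
  let ρ₀ : ResidueField A ≃+* ResidueField T :=
    RingEquiv.ofBijective _ (AdicCompletion.residueField_map_bijective A)
  let c₀ : ResidueField A →+* D := Ideal.Quotient.lift (maximalIdeal A)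
    ((Ideal.Quotient.mk P).comp C) fun a ha => Ideal.Quotient.eq_zero_iff_mem.2 (hP ha)
  let cT : T →+* D := (c₀.comp ρ₀.symm.toRingHom).comp (residue T)
  have hcT : ∀ a : A, cT (algebraMap A T a) = Ideal.Quotient.mk P (C a) := fun a => by
    have h1 : ρ₀ (residue A a) = residue T (algebraMap A T a) :=
      IsLocalRing.ResidueField.map_residue _ a
    show c₀ (ρ₀.symm (residue T (algebraMap A T a))) = _
    rw [← h1, RingEquiv.symm_apply_apply]
    rfl
  let θ : MvPolynomial (Fin n) T →+* D := eval₂Hom cT fun i => Ideal.Quotient.mk P (X i)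
  have hθ : θ.comp ι = Ideal.Quotient.mk P := by
    refine MvPolynomial.ringHom_ext (fun a => ?_) fun i => ?_
    · simp [θ, ι, hcT]
    · simp [θ, ι]
  let P' := RingHom.ker θ
  haveI : P'.IsPrime := RingHom.ker_isPrime θ
  have hPP' : P'.comap ι = P := by
    rw [RingHom.comap_ker, hθ, Ideal.mk_ker]
  -- approximation
  have happ : ∀ f : MvPolynomial (Fin n) T, ∃ g, f - ι g ∈ P.map ι := by
    intro f
    induction f using MvPolynomial.induction_on with
    | C t =>
      obtain ⟨a, ha⟩ : ∃ a : A, t - algebraMap A T a ∈ maximalIdeal T := by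
        obtain ⟨b, hb⟩ := ρ₀.surjective (residue T t)
        obtain ⟨a, rfl⟩ := residue_surjective b
        have h1 : ρ₀ (residue A a) = residue T (algebraMap A T a) :=
          IsLocalRing.ResidueField.map_residue _ a
        exact ⟨a, (Ideal.Quotient.eq).1 (hb.symm.trans h1)⟩
      refine ⟨C a, ?_⟩
      rw [show ι (C a) = C (algebraMap A T a) from MvPolynomial.map_C _ _, ← map_sub]
      have hm : maximalIdeal T = (maximalIdeal A).map (algebraMap A T) :=
        AdicCompletion.maximalIdeal_eq_map
      rw [hm] at ha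
      have h2 : (maximalIdeal A).map (C.comp (algebraMap A T) : A →+* MvPolynomial (Fin n) T) ≤ P.map ι := by
        rw [show (C.comp (algebraMap A T) : A →+* MvPolynomial (Fin n) T) = ι.comp C from
          RingHom.ext fun a => (MvPolynomial.map_C _ _).symm, ← Ideal.map_map]
        exact Ideal.map_mono (Ideal.map_le_iff_le_comap.2 hP)
      apply h2
      rw [← Ideal.map_map]
      exact Ideal.mem_map_of_mem _ ha
    | add f g hf hg =>
      obtain ⟨f₀, hf⟩ := hf
      obtain ⟨g₀, hg⟩ := hg
      exact ⟨f₀ + g₀, by rw [map_add, add_sub_add_comm]; exact add_mem hf hg⟩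
    | mul_X f i hf =>
      obtain ⟨f₀, hf⟩ := hf
      refine ⟨f₀ * X i, ?_⟩
      rw [map_mul, show ι (X i) = X i from MvPolynomial.map_X _ _, ← sub_mul]
      exact Ideal.mul_mem_right _ _ hf
  have hmapP : P.map ι = P' := by
    refine le_antisymm (Ideal.map_le_iff_le_comap.2 hPP'.ge) fun f hf => ?_
    obtain ⟨g, hg⟩ := happ f
    have h1 : θ (f - ι g) = 0 := (Ideal.map_le_iff_le_comap.2 hPP'.ge : P.map ι ≤ P') hg
    rw [map_sub, show θ f = 0 from hf, zero_sub, neg_eq_zero] at h1
    have h2 : g ∈ P := hPP' ▸ h1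
    simpa using add_mem hg (Ideal.mem_map_of_mem ι h2)
  let AP := Localization.AtPrime P
  let TP := Localization.AtPrime P'
  let lh : AP →+* TP := Localization.localRingHom P P' ι hPP'.symm
  letI : Algebra AP TP := lh.toAlgebra
  haveI : IsLocalHom (algebraMap AP TP) := Localization.isLocalHom_localRingHom P P' ι hPP'.symm
  haveI : Module.Flat AP TP := by
    have hι : ι.Flat := by
      show Module.Flat (MvPolynomial (Fin n) A) (MvPolynomial (Fin n) T)
      have h : Algebra.IsPushout A (MvPolynomial (Fin n) A) T (MvPolynomial (Fin n) T) := inferInstance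
      exact Module.Flat.of_linearEquiv h.out.equiv.symm
    exact hι.localRingHom P' P hPP'.symm
  have hmax : (maximalIdeal AP).map (algebraMap AP TP) = maximalIdeal TP := by
    rw [← Localization.AtPrime.map_eq_maximalIdeal, ← Localization.AtPrime.map_eq_maximalIdeal, Ideal.map_map]
    have : (algebraMap AP TP).comp (algebraMap (MvPolynomial (Fin n) A) AP) =
        (algebraMap (MvPolynomial (Fin n) T) TP).comp ι :=
      RingHom.ext fun x => Localization.localRingHom_to_map _ _ _ hPP'.symm x
    rw [this, ← Ideal.map_map, hmapP]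
  have hres : ∀ x : TP, ∃ a : AP, x - algebraMap AP TP a ∈ maximalIdeal TP := by
    intro x
    obtain ⟨⟨f, ⟨s, hs⟩⟩, hx⟩ := IsLocalization.surj P'.primeCompl x
    obtain ⟨g, hg⟩ := happ f
    obtain ⟨g', hg'⟩ := happ s
    rw [hmapP] at hg hg'
    have hg'P : g' ∉ P := fun h => hs (by
      have : ι g' ∈ P' := (hPP'.symm ▸ h : g' ∈ P'.comap ι)
      simpa using add_mem hg' this)
    obtain ⟨w, hw⟩ := IsLocalization.map_units AP (⟨g', hg'P⟩ : P.primeCompl)
    refine ⟨algebraMap _ AP g * ↑w⁻¹, ?_⟩
    have hu : IsUnit (algebraMap (MvPolynomial (Fin n) T) TP (ι g')) := by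
      refine IsLocalization.map_units TP (⟨ι g', fun h => hg'P ?_⟩ : P'.primeCompl)
      exact hPP' ▸ h
    rw [← Ideal.unit_mul_mem_iff_mem _ hu, mul_sub]
    have h2 : algebraMap (MvPolynomial (Fin n) T) TP (ι g') * algebraMap AP TP (algebraMap _ AP g * ↑w⁻¹) =
        algebraMap (MvPolynomial (Fin n) T) TP (ι g) := by
      rw [show algebraMap (MvPolynomial (Fin n) T) TP (ι g') = algebraMap AP TP ↑w by
          rw [hw]; exact (Localization.localRingHom_to_map _ _ _ hPP'.symm g').symm,
        ← map_mul, mul_left_comm, Units.mul_inv, mul_one]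
      exact Localization.localRingHom_to_map _ _ _ hPP'.symm g
    have hsx : algebraMap (MvPolynomial (Fin n) T) TP s * x - algebraMap _ TP f = 0 := by
      rw [mul_comm, hx, sub_self]
    rw [h2, ← sub_sub_sub_cancel_right _ _ (algebraMap (MvPolynomial (Fin n) T) TP f)]
    refine sub_mem ?_ ?_
    · have e1 : algebraMap (MvPolynomial (Fin n) T) TP (ι g') * x - algebraMap _ TP f =
          (algebraMap _ TP (ι g') - algebraMap _ TP s) * x := by
        linear_combination hsx
      rw [e1]
      refine Ideal.mul_mem_right _ _ ?_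
      rw [← map_sub, IsLocalization.AtPrime.to_map_mem_maximal_iff TP P', ← neg_sub]
      exact neg_mem hg'
    · rw [← map_sub, IsLocalization.AtPrime.to_map_mem_maximal_iff TP P', ← neg_sub]
      exact neg_mem hg
  rw [← isCI_iff_of_unramified hmax hres]
  exact isCI_polynomial_quotient gs hgreg (φ.symm.toRingHom.comp (Ideal.Quotient.mk _))
    (φ.symm.surjective.comp Ideal.Quotient.mk_surjective)
    (by
      ext x
      simp [RingHom.mem_ker, Ideal.Quotient.eq_zero_iff_mem, Ideal.ofList]) n P'

end Groth.Agent.CIntCI
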