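import Groth.Agent.ArtFunLib.FlatSeq
import Groth.Agent.LocFlat.Basic
import Groth.Agent.NilFree.Basic
import Groth.Prelude.Def_RegImm
import Groth.Prelude.Def_EGA4b

/-!
# Transversally regular sequences over a Noetherian local ring

A sequence in a Noetherian local `A`-flat ring is transversally regular relative to `A` iff it is
weakly regular on the closed fibre (EGA IV 11.3.7, Matsumura 22.5).
-/

set_option autoImplicit false
set_option linter.style.haveILetI false

universe u

open IsLocalRing TensorProduct RingTheory.Sequence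
open Groth.Agent.ArtFunLib

namespace Groth.Agent.CIntCI

variable {A C : Type u} [CommRing A] [IsLocalRing A] [CommRing C] [Algebra A C]

/-- Injectivity on the closed fibre of a multiplication. -/
theorem lTensor_mulLeft_injective_iff (I : Ideal C) (a : C) :
    Function.Injective ((LinearMap.mulLeft A (Ideal.Quotient.mk I a)).lTensor (ResidueField A)) ↔
      ∀ v, a * v ∈ EGA4.mB A C ⊔ I → v ∈ EGA4.mB A C ⊔ I := by
  have key : ∀ x : C, (1 : ResidueField A) ⊗ₜ[A] (Ideal.Quotient.mk I x) = 0 ↔ x ∈ EGA4.mB A C ⊔ I := fun x =>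
    (Groth.Agent.S15129.one_tmul_eq_zero_iff _).trans (FlatSeq.mem_smul_top_iff_quot I x)
  rw [injective_iff_map_eq_zero]
  constructor
  · intro h v hv
    refine (key v).1 (h _ ?_)
    rw [LinearMap.lTensor_tmul, LinearMap.mulLeft_apply, ← map_mul]
    exact (key _).2 hv
  · intro h z hz
    obtain ⟨x, rfl⟩ := TensorProduct.mk_surjective A (C ⧸ I) (ResidueField A) Ideal.Quotient.mk_surjective z
    obtain ⟨x, rfl⟩ := Ideal.Quotient.mk_surjective x
    rw [TensorProduct.mk_apply, LinearMap.lTensor_tmul, LinearMap.mulLeft_apply, ← map_mul] at hz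
    exact (key x).2 (h x ((key _).1 hz))

theorem range_mulLeft (I : Ideal C) (a : C) :
    LinearMap.range (LinearMap.mulLeft A (Ideal.Quotient.mk I a)) =
      ((I ⊔ Ideal.span {a}).map (Ideal.Quotient.mk I)).restrictScalars A := by
  ext y
  rw [Ideal.map_sup, Ideal.map_quotient_self, bot_sup_eq, Ideal.map_span, Set.image_singleton,
    Submodule.restrictScalars_mem, Ideal.mem_span_singleton']
  constructor
  · rintro ⟨z, rfl⟩; exact ⟨z, mul_comm _ _⟩
  · rintro ⟨z, rfl⟩; exact ⟨z, mul_comm _ _⟩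

/-- `C/(I + aC)` is the cokernel of multiplication by `a` on `C/I`. -/
theorem nonempty_coker_equiv (I : Ideal C) (a : C) :
    Nonempty (((C ⧸ I) ⧸ LinearMap.range (LinearMap.mulLeft A (Ideal.Quotient.mk I a))) ≃ₗ[A]
      C ⧸ (I ⊔ Ideal.span {a})) :=
  ⟨(Submodule.quotEquivOfEq _ _ (range_mulLeft I a)).trans
    ((Submodule.Quotient.restrictScalarsEquiv A _).trans
      (DoubleQuot.quotQuotEquivQuotOfLEₐ A (le_sup_left : I ≤ I ⊔ Ideal.span {a})).toLinearEquiv)⟩

variable [IsLocalRing C] [IsNoetherianRing C] [IsLocalHom (algebraMap A C)]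

theorem regular_and_flat_succ (I : Ideal C) [Module.Flat A (C ⧸ I)] (a : C)
    (hfib : ∀ v, a * v ∈ EGA4.mB A C ⊔ I → v ∈ EGA4.mB A C ⊔ I) :
    (∀ v, a * v ∈ I → v ∈ I) ∧ Module.Flat A (C ⧸ (I ⊔ Ideal.span {a})) := by
  haveI : Module.Finite C (C ⧸ I) := Module.Finite.of_surjective I.mkQ I.mkQ_surjective
  obtain ⟨hinj, hflat⟩ := LocFlat.injective_and_flat_coker (S := C)
    (LinearMap.mulLeft A (Ideal.Quotient.mk I a)) ((lTensor_mulLeft_injective_iff I a).2 hfib)
  refine ⟨fun v hv => ?_, ?_⟩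
  · rw [← Ideal.Quotient.eq_zero_iff_mem] at hv ⊢
    exact hinj (hv.trans (map_zero (LinearMap.mulLeft A (Ideal.Quotient.mk I a))).symm)
  · obtain ⟨e⟩ := nonempty_coker_equiv (A := A) I a
    haveI := hflat
    exact Module.Flat.of_linearEquiv e.symm

omit [IsLocalRing C] [IsNoetherianRing C] [IsLocalHom (algebraMap A C)] in
theorem fib_of_flat (I : Ideal C) (a : C) (hreg : ∀ v, a * v ∈ I → v ∈ I)
    [Module.Flat A (C ⧸ (I ⊔ Ideal.span {a}))] :
    ∀ v, a * v ∈ EGA4.mB A C ⊔ I → v ∈ EGA4.mB A C ⊔ I := by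
  rw [← lTensor_mulLeft_injective_iff (A := A)]
  obtain ⟨e⟩ := nonempty_coker_equiv (A := A) I a
  haveI := Module.Flat.of_linearEquiv e
  refine LinearMap.lTensor_injective_of_exact_of_flat
    (LinearMap.range (LinearMap.mulLeft A (Ideal.Quotient.mk I a))).mkQ (Submodule.mkQ_surjective _)
    (LinearMap.mulLeft A (Ideal.Quotient.mk I a)) ?_ (LinearMap.exact_map_mkQ_range _) (ResidueField A)
  rw [injective_iff_map_eq_zero]
  intro z hz
  obtain ⟨v, rfl⟩ := Ideal.Quotient.mk_surjective z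
  rw [LinearMap.mulLeft_apply, ← map_mul, Ideal.Quotient.eq_zero_iff_mem] at hz
  exact Ideal.Quotient.eq_zero_iff_mem.2 (hreg v hz)

variable [Module.Flat A C]

/-- Transversal regularity is weak regularity on the closed fibre. -/
theorem isTransRegularSeq_ofFn_iff {r : ℕ} (a : Fin r → C) :
    RegImm.IsTransRegularSeq A C (List.ofFn a) ↔
      IsWeaklyRegular (EGA4.FibRing A C) (List.ofFn fun i => Ideal.Quotient.mk (EGA4.mB A C) (a i)) := by
  have hmem : ∀ (i : ℕ) (v : C), Ideal.Quotient.mk (EGA4.mB A C) v ∈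
      FlatSeq.prefixIdeal (fun i => Ideal.Quotient.mk (EGA4.mB A C) (a i)) i ↔
        v ∈ EGA4.mB A C ⊔ FlatSeq.prefixIdeal a i := fun i v => by
    have h : FlatSeq.prefixIdeal (fun i => Ideal.Quotient.mk (EGA4.mB A C) (a i)) i =
        (FlatSeq.prefixIdeal a i).map (Ideal.Quotient.mk (EGA4.mB A C)) := by
      simp only [FlatSeq.prefixIdeal, Ideal.map_ofList, List.map_take, List.map_ofFn]
      rfl
    rw [h, ← Ideal.mem_comap, Ideal.comap_map_quotientMk]
  rw [FlatSeq.isWeaklyRegular_iff]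
  constructor
  · rintro ⟨hreg, hflat⟩ i v hv
    obtain ⟨v, rfl⟩ := Ideal.Quotient.mk_surjective v
    rw [← map_mul, hmem] at hv
    rw [hmem]
    haveI : Module.Flat A (C ⧸ (FlatSeq.prefixIdeal a i ⊔ Ideal.span {a i})) := by
      rw [← FlatSeq.prefixIdeal_succ]
      exact hflat (i + 1) (by simpa using i.2)
    exact fib_of_flat _ _ ((FlatSeq.isWeaklyRegular_iff a).1 hreg i) v hv
  · intro h
    have hfib : ∀ i : Fin r, ∀ v, a i * v ∈ EGA4.mB A C ⊔ FlatSeq.prefixIdeal a i →
        v ∈ EGA4.mB A C ⊔ FlatSeq.prefixIdeal a i := fun i v hv => by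
      rw [← hmem]
      refine h i _ ?_
      rw [← map_mul, hmem]
      exact hv
    have hfl : ∀ j, j ≤ r → Module.Flat A (C ⧸ FlatSeq.prefixIdeal a j) := by
      intro j
      induction j with
      | zero =>
        intro _
        rw [FlatSeq.prefixIdeal_zero]
        exact Module.Flat.of_linearEquiv (AlgEquiv.quotientBot A C).toLinearEquiv
      | succ j ih =>
        intro hj
        haveI := ih (by omega)
        rw [FlatSeq.prefixIdeal_succ a ⟨j, by omega⟩]
        exact (regular_and_flat_succ _ _ (hfib ⟨j, by omega⟩)).2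
    refine ⟨(FlatSeq.isWeaklyRegular_iff a).2 fun i => ?_, fun j hj => hfl j (by simpa using hj)⟩
    haveI := hfl i i.2.le
    exact (regular_and_flat_succ _ _ (hfib i)).1

theorem isTransRegularSeq_iff (rs : List C) :
    RegImm.IsTransRegularSeq A C rs ↔
      IsWeaklyRegular (EGA4.FibRing A C) (rs.map (Ideal.Quotient.mk (EGA4.mB A C))) := by
  obtain ⟨r, a, rfl⟩ : ∃ (r : ℕ) (a : Fin r → C), rs = List.ofFn a := ⟨_, _, (List.ofFn_get rs).symm⟩
  rw [List.map_ofFn]
  exact isTransRegularSeq_ofFn_iff a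

/-- An ideal with flat quotient is generated by lifts of generators on the closed fibre. -/
theorem eq_of_flat_quotient {J K : Ideal C} (hKJ : K ≤ J) (hJ : J ≤ EGA4.mB A C ⊔ K)
    [Module.Flat A (C ⧸ J)] : K = J := by
  refine le_antisymm hKJ (Submodule.le_of_le_smul_of_le_jacobson_bot (I := EGA4.mB A C)
    (IsNoetherian.noetherian J) ?_ fun x hx => ?_)
  · exact LocFlat.map_le_jacobson (maximalIdeal A) (maximalIdeal.isMaximal A).ne_top
  · obtain ⟨y, hy, z, hz, rfl⟩ := Submodule.mem_sup.1 (hJ hx)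
    have hyJ : y ∈ J := by
      have := J.sub_mem hx (hKJ hz)
      simpa using this
    have h := NilFree.inf_smul_top_le_smul_of_flat (R := A) (J.mkQ.restrictScalars A) J.mkQ_surjective
      (maximalIdeal A) (x := y) ⟨(Submodule.Quotient.mk_eq_zero J).2 hyJ, by
        rw [Ideal.smul_top_eq_map]; exact hy⟩
    refine Submodule.mem_sup.2 ⟨z, hz, y, ?_, add_comm z y⟩
    refine Submodule.smul_induction_on h (fun r hr w hw => ?_) fun u v hu hv => add_mem hu hv
    rw [Algebra.smul_def r w]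
    exact Ideal.mul_mem_mul (Ideal.mem_map_of_mem (algebraMap A C) hr) ((Submodule.Quotient.mk_eq_zero J).1 hw)

end Groth.Agent.CIntCI
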