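import Groth.Agent.CIntCI.RelFibre
import Groth.Agent.CIntImm.Bridge
import Groth.Agent.FlatMor.FibreStalk
import Groth.Agent.CIntCodim.Basic
import Groth.Agent.RelQR38.Scheme

/-!
# Regular closed immersions seen on the fibres

* `isRegularClosedImmersion_iff`, `exists_restrict_iff_at`: the two notions of regular immersion.
* `FibReg`: the trace of the ideal on the fibre's local ring is regular.
* `fibReg_iff_fiberMap`: this is regularity of the fibre immersion.
* `fibReg_of_regularAt`, `regularAt_of_fibReg`: EGA IV 11.3.8 / 19.2.4 at a point.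
-/

set_option autoImplicit false
set_option linter.style.haveILetI false

universe u

open CategoryTheory CategoryTheory.Limits AlgebraicGeometry IsLocalRing RingTheory.Sequence

namespace Groth.Agent.CIntCI

variable {X Y S : Scheme.{u}}

theorem isClosedImmersion_restrict' (i : Y ⟶ X) [IsClosedImmersion i] (O : X.Opens) :
    IsClosedImmersion (i ∣_ O) :=
  MorphismProperty.of_isPullback (isPullback_morphismRestrict i O).flip inferInstance

theorem isRegularClosedImmersion_iff (i : Y ⟶ X) [IsClosedImmersion i] :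
    Mor2.IsRegularClosedImmersion i ↔ ∀ y, RegImm.IsRegularImmersionAt .regular i y := by
  refine ⟨fun h y => ?_, fun h => ⟨inferInstance, fun y => ?_⟩⟩
  · obtain ⟨U, hU, hy, rs, hrs, hk⟩ := h.2 y
    rw [Scheme.Hom.ker_apply] at hk
    exact ⟨⟨U, hU⟩, hy, isClosedImmersion_restrict' i U, rs, hrs, hk⟩
  · obtain ⟨⟨U, hU⟩, hy, -, rs, hrs, hk⟩ := h y
    exact ⟨U, hU, hy, rs, hrs, by rw [Scheme.Hom.ker_apply]; exact hk⟩

theorem exists_restrict_iff_at (i : Y ⟶ X) [IsClosedImmersion i] (y : Y) :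
    (∃ V : X.Opens, i y ∈ V ∧ Mor2.IsRegularClosedImmersion (i ∣_ V)) ↔
      RegImm.IsRegularImmersionAt .regular i y := by
  constructor
  · rintro ⟨V, hyV, -, h⟩
    obtain ⟨U, hU, hyU, rs, hrs, hker⟩ := h ⟨y, hyV⟩
    haveI := isClosedImmersion_restrict' i V
    rw [Scheme.Hom.ker_apply, CIntImm.ker_app_restrict] at hker
    exact ⟨⟨V.ι ''ᵁ U, hU.image_of_isOpenImmersion V.ι⟩,
      ⟨(i ∣_ V) ⟨y, hyV⟩, hyU, morphismRestrict_base_coe i V ⟨y, hyV⟩⟩,
      isClosedImmersion_restrict' i _, rs, hrs, hker⟩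
  · rintro ⟨⟨U, hU⟩, hyU, -, rs, hrs, hk⟩
    haveI := isClosedImmersion_restrict' i U
    refine ⟨U, hyU, inferInstance, fun z => ⟨⊤, ?_, trivial, ?_⟩⟩
    · haveI : IsAffine (U : Scheme.{u}) := hU
      exact isAffineOpen_top _
    · have key : ∀ (V' : X.Opens) (_ : V' = U), ∃ rs' : List Γ(X, V'),
          IsRegular Γ(X, V') rs' ∧ RingHom.ker (i.app V').hom = Ideal.ofList rs' := by
        rintro V' rfl
        exact ⟨rs, hrs, hk⟩
      obtain ⟨rs', hrs', hk'⟩ := key (U.ι ''ᵁ ⊤) U.ι_image_top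
      refine ⟨rs', hrs', ?_⟩
      rw [Scheme.Hom.ker_apply, CIntImm.ker_app_restrict]
      exact hk'

theorem isH1Regular_of_isWeaklyRegular {C : Type u} [CommRing C] {c : ℕ} (a : Fin c → C)
    (hrs : IsWeaklyRegular C (List.ofFn a)) : CAlgX.IsH1Regular a := fun m hm0 => by
  have h := CIntPres.mem_trivRel_of_isWeaklyRegular a hrs m (by
    rw [← hm0]
    exact Finset.sum_congr rfl fun i _ => mul_comm _ _)
  refine Submodule.span_le.2 ?_ h
  rintro v ⟨i, j, x, rfl⟩
  have hv : a j • (Pi.single i x : Fin c → C) - a i • (Pi.single j x : Fin c → C) =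
      x • ((Pi.single i (a j) : Fin c → C) - Pi.single j (a i)) := by
    rw [smul_sub, ← Pi.single_smul, ← Pi.single_smul, ← Pi.single_smul, ← Pi.single_smul]
    simp only [smul_eq_mul, mul_comm]
  rw [SetLike.mem_coe, hv]
  exact Submodule.smul_mem _ x (Submodule.subset_span ⟨i, j, rfl⟩)

theorem regularAt_h1 {i : Y ⟶ X} {y : Y} (h : RegImm.IsRegularImmersionAt .regular i y) :
    RegImm.IsRegularImmersionAt .h1 i y := by
  obtain ⟨U, hy, hci, rs, hrs, hk⟩ := h
  refine ⟨U, hy, hci, rs, ?_, hk⟩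
  exact isH1Regular_of_isWeaklyRegular rs.get (by rw [List.ofFn_get]; exact hrs.toIsWeaklyRegular)

/-- The trace of `ker r` on the local ring of the fibre is a regular ideal. -/
def FibReg (g : X ⟶ S) (x : X) {R : Type u} [CommRing R] (r : X.presheaf.stalk x →+* R) : Prop :=
  CInt.IsRegularIdeal ((RingHom.ker r).map
    (Ideal.Quotient.mk ((maximalIdeal (S.presheaf.stalk (g x))).map (g.stalkMap x).hom)))

theorem fibReg_congr {T : Scheme.{u}} (g : X ⟶ S) {a b : T ⟶ X} (h : a = b) (w : T) :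
    FibReg g (a w) (a.stalkMap w).hom ↔ FibReg g (b w) (b.stalkMap w).hom := by
  subst h; rfl

theorem isRegularIdeal_comp_iff {C D R : Type u} [CommRing C] [CommRing D] [CommRing R] {M : Ideal C}
    (π : C →+* D) (hπ : Function.Surjective π) (hk : RingHom.ker π = M) (ψ : D →+* R) :
    CInt.IsRegularIdeal ((RingHom.ker (ψ.comp π)).map (Ideal.Quotient.mk M)) ↔
      CInt.IsRegularIdeal (RingHom.ker ψ) := by
  let e : (C ⧸ M) ≃+* D := (Ideal.quotEquivOfEq hk.symm).trans (RingHom.quotientKerEquivOfSurjective hπ)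
  have h1 : ((RingHom.ker (ψ.comp π)).map (Ideal.Quotient.mk M)).map (e : C ⧸ M →+* D) = RingHom.ker ψ := by
    rw [Ideal.map_map, show ((e : C ⧸ M →+* D)).comp (Ideal.Quotient.mk M) = π from RingHom.ext fun _ => rfl,
      ← RingHom.comap_ker, Ideal.map_comap_of_surjective π hπ]
  refine ⟨fun h => h1 ▸ CIntImm.isRegularIdeal_map_equiv e h, fun h => ?_⟩
  have h2 := CIntImm.isRegularIdeal_map_equiv e.symm h
  rw [← h1] at h2
  convert h2 using 1
  exact (Ideal.map_of_equiv e).symm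

/-- Regularity of the fibre immersion at `w` is `FibReg` at the point of `Y` under `w`. -/
theorem fibReg_iff_fiberMap (u : Y ⟶ X) [IsClosedImmersion u] (g : X ⟶ S) (s : S) (w : (u ≫ g).fiber s) :
    FibReg g (u ((u ≫ g).fiberι s w)) (u.stalkMap ((u ≫ g).fiberι s w)).hom ↔
      CInt.IsRegularIdeal (RingHom.ker ((CInt.fiberMap u g s).stalkMap w).hom) := by
  let i := CInt.fiberMap u g s
  let gι := g.fiberι s
  let fι := (u ≫ g).fiberι s
  have h1 : FibReg g ((i ≫ gι) w) ((i ≫ gι).stalkMap w).hom ↔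
      CInt.IsRegularIdeal (RingHom.ker (i.stalkMap w).hom) := by
    rw [Scheme.Hom.stalkMap_comp]
    exact isRegularIdeal_comp_iff (gι.stalkMap (i w)).hom (gι.stalkMap_surjective _)
      (FlatMor.FibreStalk.ker_stalkMap_fiberι g s (i w)) (i.stalkMap w).hom
  have h2 : FibReg g ((fι ≫ u) w) ((fι ≫ u).stalkMap w).hom ↔
      FibReg g (u (fι w)) (u.stalkMap (fι w)).hom := by
    rw [Scheme.Hom.stalkMap_comp]
    let M := (maximalIdeal (S.presheaf.stalk (g (u (fι w))))).map (g.stalkMap (u (fι w))).hom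
    let φ := (u.stalkMap (fι w)).hom
    have hcomp : ((u ≫ g).stalkMap (fι w)).hom = φ.comp (g.stalkMap (u (fι w))).hom := by
      rw [Scheme.Hom.stalkMap_comp]
      rfl
    have hk : RingHom.ker ((fι.stalkMap w).hom.comp φ) = RingHom.ker φ ⊔ M := by
      rw [← RingHom.comap_ker, FlatMor.FibreStalk.ker_stalkMap_fiberι (u ≫ g) s w,
        show (maximalIdeal (S.presheaf.stalk ((u ≫ g) (fι w)))).map ((u ≫ g).stalkMap (fι w)).hom = M.map φ by
          rw [Ideal.map_map]
          exact congrArg (fun r => (maximalIdeal (S.presheaf.stalk (g (u (fι w))))).map r) hcomp,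
        Ideal.comap_map_of_surjective' _ (u.stalkMap_surjective _), sup_comm]
    have e : (RingHom.ker ((fι.stalkMap w).hom.comp φ)).map (Ideal.Quotient.mk M) =
        (RingHom.ker φ).map (Ideal.Quotient.mk M) := by
      rw [hk, Ideal.map_sup, Ideal.map_quotient_self, sup_bot_eq]
    exact Iff.of_eq (congrArg CInt.IsRegularIdeal e)
  exact h2.symm.trans ((fibReg_congr g (CIntCodim.fiberMap_ι u g s).symm w).trans h1)

theorem isLocallyNoetherian_fiber (g : X ⟶ S) [LocallyOfFiniteType g] (s : S) :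
    IsLocallyNoetherian (g.fiber s) := by
  haveI : LocallyOfFiniteType (g.fiberToSpecResidueField s) := MorphismProperty.pullback_snd _ _ inferInstance
  exact LocallyOfFiniteType.isLocallyNoetherian (g.fiberToSpecResidueField s)

theorem isNoetherianRing_fibRing (g : X ⟶ S) [LocallyOfFiniteType g] (x : X) :
    IsNoetherianRing (X.presheaf.stalk x ⧸ (maximalIdeal (S.presheaf.stalk (g x))).map (g.stalkMap x).hom) := by
  obtain ⟨e⟩ := FlatMor.FibreStalk.exists_fibre_stalk_equiv g x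
  haveI := isLocallyNoetherian_fiber g (g x)
  exact isNoetherianRing_of_ringEquiv ((g.fiber (g x)).presheaf.stalk (g.asFiber x)) e.symm

theorem flat_stalk_quotient (u : Y ⟶ X) [IsClosedImmersion u] (g : X ⟶ S) (y : Y)
    (h : ((u ≫ g).stalkMap y).hom.Flat) :
    ((Ideal.Quotient.mk (RingHom.ker (u.stalkMap y).hom)).comp (g.stalkMap (u y)).hom).Flat := by
  rw [Scheme.Hom.stalkMap_comp] at h
  let φ := (u.stalkMap y).hom
  letI : Algebra (S.presheaf.stalk (g (u y))) (X.presheaf.stalk (u y)) := (g.stalkMap (u y)).hom.toAlgebra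
  letI : Algebra (S.presheaf.stalk (g (u y))) (Y.presheaf.stalk y) := (φ.comp (g.stalkMap (u y)).hom).toAlgebra
  haveI : Module.Flat (S.presheaf.stalk (g (u y))) (Y.presheaf.stalk y) := h
  let φA : X.presheaf.stalk (u y) →ₐ[S.presheaf.stalk (g (u y))] Y.presheaf.stalk y :=
    { toRingHom := φ, commutes' := fun _ => rfl }
  have : Module.Flat (S.presheaf.stalk (g (u y))) (X.presheaf.stalk (u y) ⧸ RingHom.ker φ) :=
    Module.Flat.of_linearEquiv
      (Ideal.quotientKerAlgEquivOfSurjective (f := φA) (u.stalkMap_surjective y)).toLinearEquiv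
  exact RingHom.flat_algebraMap_iff.2 this

/-- A regular immersion, flat over the base at `y`, is regular on the fibre. -/
theorem fibReg_of_regularAt (u : Y ⟶ X) [IsClosedImmersion u] (g : X ⟶ S) [LocallyOfFiniteType g] (y : Y)
    (h : RegImm.IsRegularImmersionAt .regular u y) (hfl : ((u ≫ g).stalkMap y).hom.Flat) :
    FibReg g (u y) (u.stalkMap y).hom := by
  obtain ⟨⟨U, hU⟩, hyU, -, rs, hrs, hker⟩ := h
  haveI := isClosedImmersion_restrict' u U
  let A := S.presheaf.stalk (g (u y))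
  let C := X.presheaf.stalk (u y)
  letI : Algebra A C := (g.stalkMap (u y)).hom.toAlgebra
  haveI : IsLocalHom (algebraMap A C) := inferInstanceAs (IsLocalHom (g.stalkMap (u y)).hom)
  haveI : IsNoetherianRing (EGA4.FibRing A C) := isNoetherianRing_fibRing g (u y)
  haveI : Module.Flat A (C ⧸ RingHom.ker (u.stalkMap y).hom) :=
    RingHom.flat_algebraMap_iff.1 (flat_stalk_quotient u g y hfl)
  letI := TopCat.Presheaf.algebra_section_stalk X.presheaf (⟨u y, hyU⟩ : ↥U)
  haveI := hU.isLocalization_stalk ⟨u y, hyU⟩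
  have hk : RingHom.ker (u.stalkMap y).hom = Ideal.ofList (rs.map (algebraMap Γ(X, U) C)) := by
    refine (RegImm38.ker_stalkMap_eq_map u hU y hyU).trans ?_
    rw [show RingHom.ker (u.app U).hom = Ideal.ofList rs from hker, Ideal.map_ofList]
    rfl
  have hle : RingHom.ker (u.stalkMap y).hom ≤ maximalIdeal C := le_maximalIdeal (RingHom.ker_ne_top _)
  haveI : Module.Flat Γ(X, U) C := IsLocalization.flat _ (hU.primeIdealOf ⟨u y, hyU⟩).asIdeal.primeCompl
  haveI : Module.Flat A (C ⧸ Ideal.ofList (rs.map (algebraMap Γ(X, U) C))) := hk ▸ inferInstance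
  show CInt.IsRegularIdeal ((RingHom.ker (u.stalkMap y).hom).map (Ideal.Quotient.mk (EGA4.mB A C)))
  refine ⟨(rs.map (algebraMap Γ(X, U) C)).map (Ideal.Quotient.mk (EGA4.mB A C)), ?_, ?_⟩
  · refine .of_isWeaklyRegular_of_mem_maximalIdeal _ (fun x hx => ?_)
      (isWeaklyRegular_fibRing _ (hrs.toIsWeaklyRegular.of_flat) (fun r hr => hle (hk.ge (Ideal.subset_span hr))))
    obtain ⟨r, hr, rfl⟩ := List.mem_map.1 hx
    haveI : IsLocalHom (Ideal.Quotient.mk (EGA4.mB A C)) :=
      IsLocalHom.of_surjective _ Ideal.Quotient.mk_surjective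
    exact map_maximalIdeal_le (Ideal.Quotient.mk (EGA4.mB A C))
      (Ideal.mem_map_of_mem _ (hle (hk.ge (Ideal.subset_span hr))))
  · rw [← Ideal.map_ofList, hk]

/-- Lifting a regular immersion from the fibre (EGA IV 11.3.8, 19.2.4). -/
theorem regularAt_of_fibReg (u : Y ⟶ X) [IsClosedImmersion u] (g : X ⟶ S) [LocallyOfFinitePresentation g]
    [LocallyOfFinitePresentation (u ≫ g)] (y : Y) (hX : (g.stalkMap (u y)).hom.Flat)
    (hY : ((u ≫ g).stalkMap y).hom.Flat) (hfib : FibReg g (u y) (u.stalkMap y).hom) :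
    RegImm.IsRegularImmersionAt .regular u y := by
  obtain ⟨ys, hyreg, hys⟩ := hfib
  haveI hres : ∀ O, IsClosedImmersion (u ∣_ O) := isClosedImmersion_restrict' u
  let A := S.presheaf.stalk (g (u y))
  let C := X.presheaf.stalk (u y)
  letI : Algebra A C := (g.stalkMap (u y)).hom.toAlgebra
  haveI : IsLocalHom (algebraMap A C) := inferInstanceAs (IsLocalHom (g.stalkMap (u y)).hom)
  haveI : Module.Flat A C := hX
  haveI : Module.Flat A (C ⧸ RingHom.ker (u.stalkMap y).hom) :=
    RingHom.flat_algebraMap_iff.1 (flat_stalk_quotient u g y hY)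
  obtain ⟨W, hW, hsW, -⟩ := exists_isAffineOpen_mem_and_subset (show g (u y) ∈ (⊤ : S.Opens) from trivial)
  obtain ⟨U₀, hU₀, hyU₀, hle₀⟩ := exists_isAffineOpen_mem_and_subset (show u y ∈ g ⁻¹ᵁ W from hsW)
  have step : ∀ (U : X.Opens) (hU : IsAffineOpen U) (hyU : u y ∈ U) (hle : U ≤ g ⁻¹ᵁ W),
      (∃ bs : List Γ(X, U), Ideal.ofList bs ≤ RingHom.ker (u.app U).hom ∧
        (∃ h ∉ (hU.primeIdealOf ⟨u y, hyU⟩).asIdeal,
          ∀ x ∈ RingHom.ker (u.app U).hom, h * x ∈ Ideal.ofList bs) ∧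
        IsWeaklyRegular (EGA4.FibRing A C)
          (bs.map fun b => Ideal.Quotient.mk (EGA4.mB A C) ((X.presheaf.germ U (u y) hyU).hom b))) ∧
      ∀ bs : List Γ(X, U), IsWeaklyRegular (EGA4.FibRing A C)
          (bs.map fun b => Ideal.Quotient.mk (EGA4.mB A C) ((X.presheaf.germ U (u y) hyU).hom b)) →
        ∃ g' ∉ (hU.primeIdealOf ⟨u y, hyU⟩).asIdeal,
          IsWeaklyRegular Γ(X, X.basicOpen g')
            (bs.map (X.presheaf.map (homOfLE (X.basicOpen_le g')).op).hom) := by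
    intro U hU hyU hle
    letI : Algebra Γ(X, U) C := (X.presheaf.germ U (u y) hyU).hom.toAlgebra
    haveI hlocC : IsLocalization.AtPrime C (hU.primeIdealOf ⟨u y, hyU⟩).asIdeal :=
      hU.isLocalization_stalk ⟨u y, hyU⟩
    letI : Algebra Γ(S, W) A := (S.presheaf.germ W (g (u y)) hsW).hom.toAlgebra
    letI : Algebra Γ(S, W) Γ(X, U) := (g.appLE W U hle).hom.toAlgebra
    letI : Algebra Γ(S, W) C := ((algebraMap A C).comp (algebraMap Γ(S, W) A)).toAlgebra
    haveI : IsScalarTower Γ(S, W) A C := .of_algebraMap_eq' rfl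
    haveI : IsScalarTower Γ(S, W) Γ(X, U) C := .of_algebraMap_eq fun r => by
      show (g.stalkMap (u y)).hom ((S.presheaf.germ W (g (u y)) hsW).hom r) =
        (X.presheaf.germ U (u y) hyU).hom ((g.appLE W U hle).hom r)
      rw [Scheme.Hom.germ_stalkMap_apply, Scheme.Hom.appLE, CommRingCat.comp_apply,
        TopCat.Presheaf.germ_res_apply]
    haveI : Algebra.FinitePresentation Γ(S, W) Γ(X, U) := g.finitePresentation_appLE hW hU hle
    have hQ : (hU.primeIdealOf ⟨u y, hyU⟩).asIdeal.comap (algebraMap Γ(S, W) Γ(X, U)) =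
        (hW.primeIdealOf ⟨g (u y), hsW⟩).asIdeal :=
      congrArg PrimeSpectrum.asIdeal
        (IsAffineOpen.comap_primeIdealOf_appLE W hW U hU hle (f := g) (x := u y) hyU)
    haveI : IsLocalization.AtPrime A
        ((hU.primeIdealOf ⟨u y, hyU⟩).asIdeal.comap (algebraMap Γ(S, W) Γ(X, U))) := by
      have h : IsLocalization.AtPrime A (hW.primeIdealOf ⟨g (u y), hsW⟩).asIdeal :=
        hW.isLocalization_stalk ⟨g (u y), hsW⟩
      simpa only [IsLocalization.AtPrime, hQ] using h
    refine ⟨?_, fun bs hbs => ?_⟩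
    · have hker : RingHom.ker (u.stalkMap y).hom = (RingHom.ker (u.app U).hom).map (algebraMap Γ(X, U) C) :=
        RegImm38.ker_stalkMap_eq_map u hU y hyU
      haveI : Module.Flat A (C ⧸ (RingHom.ker (u.app U).hom).map (algebraMap Γ(X, U) C)) := hker ▸ inferInstance
      have hfg : (RingHom.ker (u.app U).hom).FG := by
        have hV : IsAffineOpen (u ⁻¹ᵁ U) := RegImm44.isAffineOpen_preimage u hU
        have hle' : u ⁻¹ᵁ U ≤ (u ≫ g) ⁻¹ᵁ W := fun z hz => hle hz
        letI : Algebra Γ(S, W) Γ(Y, u ⁻¹ᵁ U) := ((u ≫ g).appLE W (u ⁻¹ᵁ U) hle').hom.toAlgebra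
        haveI : Algebra.FinitePresentation Γ(S, W) Γ(Y, u ⁻¹ᵁ U) :=
          (u ≫ g).finitePresentation_appLE hW hV hle'
        let φU : Γ(X, U) →ₐ[Γ(S, W)] Γ(Y, u ⁻¹ᵁ U) :=
          { toRingHom := (u.app U).hom
            commutes' := fun r => by
              show (u.app U).hom ((g.appLE W U hle).hom r) = ((u ≫ g).appLE W (u ⁻¹ᵁ U) hle').hom r
              rw [← CommRingCat.comp_apply, Scheme.Hom.app_eq_appLE, Scheme.Hom.appLE_comp_appLE] }
        exact Algebra.FinitePresentation.ker_fG_of_surjective φU (RegImm44.app_surjective u hU)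
      exact exists_lifts (A := A) _ _ hfg ys (hys.trans (congrArg (Ideal.map _) hker)) hyreg.toIsWeaklyRegular
    · obtain ⟨g', hg', h⟩ := exists_away_regular (R := Γ(S, W)) (A := A) (C := C)
        (hU.primeIdealOf ⟨u y, hyU⟩).asIdeal bs hbs
      letI : Algebra Γ(X, U) Γ(X, X.basicOpen g') :=
        (X.presheaf.map (homOfLE (X.basicOpen_le g')).op).hom.toAlgebra
      letI : Algebra Γ(S, W) Γ(X, X.basicOpen g') :=
        ((algebraMap Γ(X, U) Γ(X, X.basicOpen g')).comp (algebraMap Γ(S, W) Γ(X, U))).toAlgebra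
      haveI : IsScalarTower Γ(S, W) Γ(X, U) Γ(X, X.basicOpen g') := .of_algebraMap_eq' rfl
      haveI := hU.isLocalization_basicOpen g'
      exact ⟨g', hg', h Γ(X, X.basicOpen g')⟩
  obtain ⟨⟨bs, hbsI, ⟨h, hhQ, hh⟩, hbs⟩, -⟩ := step U₀ hU₀ hyU₀ hle₀
  have hyU₁ : u y ∈ X.basicOpen h := (RegImm44.mem_basicOpen_iff hU₀ ⟨u y, hyU₀⟩ h).2 hhQ
  have hU₁ := hU₀.basicOpen h
  let res := (X.presheaf.map (homOfLE (X.basicOpen_le h)).op).hom
  have hk1 : RingHom.ker (u.app (X.basicOpen h)).hom = Ideal.ofList (bs.map res) := by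
    refine (RegImm44.ker_app_restrict u hU₀ hU₁ (X.basicOpen_le h)).trans ?_
    rw [← Ideal.map_ofList]
    refine le_antisymm (Ideal.map_le_iff_le_comap.2 fun x hx => ?_) (Ideal.map_mono hbsI)
    have h1 : res (h * x) ∈ (Ideal.ofList bs).map res := Ideal.mem_map_of_mem res (hh x hx)
    rw [map_mul] at h1
    have hu : IsUnit (res h) := (X.toRingedSpace.isUnit_res_basicOpen h)
    exact (Ideal.unit_mul_mem_iff_mem _ hu).1 h1
  have hbs1 : IsWeaklyRegular (EGA4.FibRing A C)
      ((bs.map res).map fun b =>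
        Ideal.Quotient.mk (EGA4.mB A C) ((X.presheaf.germ (X.basicOpen h) (u y) hyU₁).hom b)) := by
    rw [List.map_map]
    refine (List.map_congr_left fun b _ => ?_) ▸ hbs
    show Ideal.Quotient.mk _ ((X.presheaf.germ U₀ (u y) hyU₀).hom b) = Ideal.Quotient.mk _ _
    exact congrArg _ (TopCat.Presheaf.germ_res_apply X.presheaf (homOfLE (X.basicOpen_le h)) (u y) hyU₁ b).symm
  obtain ⟨g', hg', hreg'⟩ := (step _ hU₁ hyU₁ ((X.basicOpen_le h).trans hle₀)).2 _ hbs1
  have hy' : u y ∈ X.basicOpen g' := (RegImm44.mem_basicOpen_iff hU₁ ⟨u y, hyU₁⟩ g').2 hg'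
  have hU₂ := hU₁.basicOpen g'
  refine ⟨⟨X.basicOpen g', hU₂⟩, hy', hres _, _, ⟨hreg', fun htop => ?_⟩, ?_⟩
  swap
  · refine (RegImm44.ker_app_restrict u hU₁ hU₂ (X.basicOpen_le g')).trans ?_
    rw [hk1, Ideal.map_ofList]
  · have h1 := RegImm44.ker_le_primeIdealOf u hU₂ y hy'
    rw [RegImm44.ker_app_restrict u hU₁ hU₂ (X.basicOpen_le g'), hk1, Ideal.map_ofList] at h1
    rw [Ideal.smul_top_eq_map] at htop
    exact (hU₂.primeIdealOf ⟨u y, hy'⟩).isPrime.ne_top
      (top_le_iff.mp ((by simpa using htop.le :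
        (⊤ : Ideal Γ(X, X.basicOpen g')) ≤ Ideal.ofList _).trans h1))

/-- The fibre immersion is regular iff the ideal is `FibReg` all along the fibre. -/
theorem isRegularClosedImmersion_fiberMap_iff (u : Y ⟶ X) [IsClosedImmersion u] (g : X ⟶ S)
    [LocallyOfFiniteType g] (s : S) :
    Mor2.IsRegularClosedImmersion (CInt.fiberMap u g s) ↔
      ∀ y : Y, g (u y) = s → FibReg g (u y) (u.stalkMap y).hom := by
  haveI := isLocallyNoetherian_fiber g s
  haveI : IsClosedImmersion (CInt.fiberMap u g s) :=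
    MorphismProperty.of_isPullback (CIntCodim.isPullback_fiberMap u g s).flip inferInstance
  rw [isRegularClosedImmersion_iff]
  constructor
  · intro h y hy
    obtain ⟨w, rfl⟩ : y ∈ Set.range ((u ≫ g).fiberι s) := by
      rw [(u ≫ g).range_fiberι s]; exact hy
    exact (fibReg_iff_fiberMap u g s w).2
      ((CIntImm.exists_restrict_iff _ w).1 ((exists_restrict_iff_at _ w).2 (h w)))
  · intro h w
    exact (exists_restrict_iff_at _ w).1 ((CIntImm.exists_restrict_iff _ w).2
      ((fibReg_iff_fiberMap u g s w).1 (h _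
        (((u ≫ g).range_fiberι s).le ⟨w, rfl⟩))))

end Groth.Agent.CIntCI
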