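import Groth.Agent.CIntCI.Basic
import Groth.Agent.S9169
import Groth.Agent.S9287
import Groth.Agent.S1491
import Groth.Agent.Wt.CMScheme
import Groth.Agent.Synt44.Mor

/-!
# Complete intersection morphisms are the syntomic morphisms
-/

set_option autoImplicit false
set_option linter.style.haveILetI false

universe u

open AlgebraicGeometry CategoryTheory IsLocalRing

namespace Groth.Agent.CIntCI

variable {X S : Scheme.{u}} (f : X ⟶ S)

/-- The fibre local ring, read on an affine chart. -/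
theorem isCI_fiberStalk_iff_chart [LocallyOfFiniteType f] {U : S.Opens} (hU : IsAffineOpen U) {V : X.Opens}
    (hV : IsAffineOpen V) (hVU : V ≤ f ⁻¹ᵁ U) {x : X} (hx : x ∈ V) :
    letI := (f.appLE U V hVU).hom.toAlgebra
    ∀ (p : Ideal Γ(S, U)) [p.IsPrime] [(hV.primeIdealOf ⟨x, hx⟩).asIdeal.LiesOver p]
      (Q : Ideal (p.Fiber Γ(X, V))) [Q.IsPrime],
      Q.comap Algebra.TensorProduct.includeRight.toRingHom = (hV.primeIdealOf ⟨x, hx⟩).asIdeal →
      (Pi1.IsCompleteIntersection (CInt.fiberStalk f x) ↔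
        Synt.IsCIOver p.ResidueField (Localization.AtPrime Q)) := by
  letI := (f.appLE U V hVU).hom.toAlgebra
  intro p _ _ Q _ hQ
  haveI : Algebra.FiniteType Γ(S, U) Γ(X, V) := f.finiteType_appLE hU hV hVU
  obtain ⟨e₁⟩ := FlatMor.FibreStalk.exists_fibre_stalk_equiv f x
  obtain ⟨e₂⟩ := Wt.CMBase.nonempty_fibLocRing_equiv f hU hV hVU hx
  obtain ⟨E⟩ := RelDim.nonempty_equiv_fibLocRing p (hV.primeIdealOf ⟨x, hx⟩).asIdeal Q hQ
  haveI : Algebra.EssFiniteType p.ResidueField (Localization.AtPrime Q) := by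
    haveI : Algebra.EssFiniteType (p.Fiber Γ(X, V)) (Localization.AtPrime Q) :=
      Algebra.EssFiniteType.of_isLocalization _ Q.primeCompl
    exact Algebra.EssFiniteType.comp p.ResidueField (p.Fiber Γ(X, V)) _
  haveI := (e₁.trans (RingEquiv.refl _)).symm.isLocalRing
  rw [← isCI_iff_isCIOver p.ResidueField (Localization.AtPrime Q)]
  exact isCI_iff_of_ringEquiv ((e₁.symm.trans e₂.symm).trans E)

theorem isSyntomic_away_one {R A : Type u} [CommRing R] [CommRing A] [Algebra R A] (h : Synt.IsSyntomic R A) :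
    Synt.IsSyntomic R (Localization.Away (1 : A)) :=
  Synt44.isSyntomic_away (Localization.Away (1 : A)) (1 : A) h

/-- Syntomic at a point iff flat with complete intersection fibre at that point. -/
theorem isSyntomicAt_iff [LocallyOfFinitePresentation f] (x : X) :
    Synt.IsSyntomicAt f x ↔ (f.stalkMap x).hom.Flat ∧ Pi1.IsCompleteIntersection (CInt.fiberStalk f x) := by
  constructor
  · rintro ⟨⟨V, hV⟩, ⟨U, hU⟩, hVU, hx, h⟩
    letI := (f.appLE U V hVU).hom.toAlgebra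
    let q := (hV.primeIdealOf ⟨x, hx⟩).asIdeal
    let p := q.under Γ(S, U)
    haveI : q.LiesOver p := ⟨rfl⟩
    obtain ⟨Q, hQ⟩ := RelDim.exists_over' p q
    obtain ⟨g, hg, -, hflat, hci⟩ := (S9169.result Γ(S, U) Γ(X, V) p q Q.asIdeal hQ).2.1
      ⟨1, (Ideal.ne_top_iff_one q).1 Ideal.IsPrime.ne_top', isSyntomic_away_one h⟩
    exact ⟨(EtStruct.flat_stalkMap_iff f hU hV hVU hx).2 hflat,
      (isCI_fiberStalk_iff_chart f hU hV hVU hx p Q.asIdeal hQ).2 hci⟩
  · rintro ⟨hflat, hci⟩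
    obtain ⟨U, hU, V, hV, hVU, hx⟩ := EtStruct.exists_chart f x
    letI := (f.appLE U V hVU).hom.toAlgebra
    let q := (hV.primeIdealOf ⟨x, hx⟩).asIdeal
    let p := q.under Γ(S, U)
    haveI : q.LiesOver p := ⟨rfl⟩
    obtain ⟨Q, hQ⟩ := RelDim.exists_over' p q
    haveI : Algebra.FinitePresentation Γ(S, U) Γ(X, V) :=
      HasRingHomProperty.appLE @LocallyOfFinitePresentation f inferInstance ⟨U, hU⟩ ⟨V, hV⟩ hVU
    haveI : Algebra.FinitePresentation Γ(X, V) (Localization.Away (1 : Γ(X, V))) :=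
      IsLocalization.Away.finitePresentation (1 : Γ(X, V))
    obtain ⟨g, hg, hsyn⟩ := (S9169.result Γ(S, U) Γ(X, V) p q Q.asIdeal hQ).2.2
      ⟨1, (Ideal.ne_top_iff_one q).1 Ideal.IsPrime.ne_top',
        Algebra.FinitePresentation.trans Γ(S, U) Γ(X, V) _,
        (EtStruct.flat_stalkMap_iff f hU hV hVU hx).1 hflat,
        (isCI_fiberStalk_iff_chart f hU hV hVU hx p Q.asIdeal hQ).1 hci⟩
    have hxg : x ∈ X.basicOpen g := by
      have h1 : (hV.primeIdealOf ⟨x, hx⟩) ∈ PrimeSpectrum.basicOpen g := hg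
      rw [← hV.fromSpec_preimage_basicOpen] at h1
      have h2 : hV.fromSpec (hV.primeIdealOf ⟨x, hx⟩) ∈ X.basicOpen g := h1
      rwa [hV.fromSpec_primeIdealOf] at h2
    have hle : X.basicOpen g ≤ f ⁻¹ᵁ U := (X.basicOpen_le g).trans hVU
    refine ⟨⟨X.basicOpen g, hV.basicOpen g⟩, ⟨U, hU⟩, hle, hxg, ?_⟩
    letI alg : Algebra Γ(S, U) Γ(X, X.basicOpen g) := (f.appLE U (X.basicOpen g) hle).hom.toAlgebra
    haveI : IsScalarTower Γ(S, U) Γ(X, V) Γ(X, X.basicOpen g) := IsScalarTower.of_algebraMap_eq' (by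
      change (f.appLE U (X.basicOpen g) hle).hom = _
      rw [← Scheme.Hom.appLE_map f hVU (homOfLE (X.basicOpen_le g)).op]
      rfl)
    haveI := hV.isLocalization_basicOpen g
    exact Synt44.isSyntomic_of_equiv ((IsLocalization.algEquiv (Submonoid.powers g) (Localization.Away g)
      Γ(X, X.basicOpen g)).restrictScalars Γ(S, U)) hsyn

theorem flat_lfp_of_isSyntomicMor {f : X ⟶ S} (h : Synt.IsSyntomicMor f) :
    Flat f ∧ LocallyOfFinitePresentation f := by
  have happ := (Synt44.isSyntomicMor_iff_appLE f).1 h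
  exact ⟨(HasRingHomProperty.iff_appLE (P := @Flat)).2 fun {V U} e => (happ V U e).1,
    (HasRingHomProperty.iff_appLE (P := @LocallyOfFinitePresentation)).2 fun {V U} e => (happ V U e).2.1⟩

/-- `CInt.IsCIMorphism` is `Synt.IsSyntomicMor`. -/
theorem isCIMorphism_iff : CInt.IsCIMorphism f ↔ Synt.IsSyntomicMor f := by
  constructor
  · rintro ⟨hfl, hfp, hci⟩ x
    exact (isSyntomicAt_iff f x).2 ⟨Flat.stalkMap f x, hci x⟩
  · intro h
    obtain ⟨hfl, hfp⟩ := flat_lfp_of_isSyntomicMor h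
    exact ⟨hfl, hfp, fun x => ((isSyntomicAt_iff f x).1 (h x)).2⟩

/-- Composites of syntomic morphisms are syntomic. -/
theorem isSyntomicMor_comp {Z : Scheme.{u}} (g : S ⟶ Z) (hf : Synt.IsSyntomicMor f) (hg : Synt.IsSyntomicMor g) :
    Synt.IsSyntomicMor (f ≫ g) := by
  obtain ⟨hffl, hffp⟩ := flat_lfp_of_isSyntomicMor hf
  obtain ⟨hgfl, hgfp⟩ := flat_lfp_of_isSyntomicMor hg
  have hf' := (Synt44.isSyntomicMor_iff_appLE f).1 hf
  have hg' := (Synt44.isSyntomicMor_iff_appLE g).1 hg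
  rw [Synt44.isSyntomicMor_iff_appLE]
  intro V U e
  have hlci := S1491.result f g
    (fun U' V' hU' hV' e' => by
      letI := (f.appLE V' U' e').hom.toAlgebra
      exact ((S9287.result Γ(S, V') Γ(X, U')).1 (hf' ⟨V', hV'⟩ ⟨U', hU'⟩ e')).2)
    (fun U' V' hU' hV' e' => by
      letI := (g.appLE V' U' e').hom.toAlgebra
      exact ((S9287.result Γ(Z, V') Γ(S, U')).1 (hg' ⟨V', hV'⟩ ⟨U', hU'⟩ e')).2) U.1 V.1 U.2 V.2 e
  letI := ((f ≫ g).appLE V.1 U.1 e).hom.toAlgebra
  refine (S9287.result Γ(Z, V.1) Γ(X, U.1)).2 ⟨?_, hlci⟩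
  exact HasRingHomProperty.appLE @Flat (f ≫ g) inferInstance V U e

end Groth.Agent.CIntCI
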