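import Groth.Agent.RegLoc.Serre

/-! # Normality at a point of depth at least two with normal punctured neighbourhood -/

set_option autoImplicit false
set_option linter.style.haveILetI false

universe u

open IsLocalRing

namespace Groth.Agent.CIntCI

theorem normal_atPrime_of_depth {R : Type u} [CommRing R] [IsNoetherianRing R] (m : Ideal R) [m.IsPrime]
    (hdep : (2 : ℕ∞) ≤ LocCoh.depth (Localization.AtPrime m) (Localization.AtPrime m))
    (h : ∀ (q : Ideal R) [q.IsPrime], q ≤ m → q ≠ m →
      IsDomain (Localization.AtPrime q) ∧ IsIntegrallyClosed (Localization.AtPrime q)) :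
    IsDomain (Localization.AtPrime m) ∧ IsIntegrallyClosed (Localization.AtPrime m) := by
  let A := Localization.AtPrime m
  haveI : IsNoetherianRing A := IsLocalization.isNoetherianRing m.primeCompl A inferInstance
  have hloc : ∀ (q : Ideal (Localization.AtPrime m)) [q.IsPrime], q ≠ maximalIdeal (Localization.AtPrime m) →
      IsDomain (Localization.AtPrime q) ∧ IsIntegrallyClosed (Localization.AtPrime q) := by
    intro q hq hne
    let q₀ : Ideal R := q.comap (algebraMap R (Localization.AtPrime m))
    haveI : q₀.IsPrime := Ideal.comap_isPrime _ _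
    have hq₀ : q₀ ≤ m := fun x hx => (IsLocalization.AtPrime.to_map_mem_maximal_iff _ m x).1
      (le_maximalIdeal hq.ne_top hx)
    have hq₁ : q₀ ≠ m := fun e => hne (by
      rw [← IsLocalization.map_under m.primeCompl (Localization.AtPrime m) q,
        ← IsLocalization.AtPrime.map_eq_maximalIdeal m (Localization.AtPrime m)]
      exact congrArg (Ideal.map (algebraMap R (Localization.AtPrime m))) e)
    obtain ⟨h1, h2⟩ := h q₀ hq₀ hq₁
    haveI : IsLocalization.AtPrime (Localization.AtPrime q) q₀ :=
      IsLocalization.isLocalization_isLocalization_atPrime_isLocalization m.primeCompl _ q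
    let e : Localization.AtPrime q₀ ≃ₐ[R] Localization.AtPrime q :=
      IsLocalization.algEquiv q₀.primeCompl _ _
    exact ⟨e.toMulEquiv.symm.isDomain, .of_equiv e.toRingEquiv⟩
  haveI : IsDomain A := RegLoc.Serre.isDomain_of_depth hdep fun q _ hq => (hloc q hq).1
  exact ⟨‹_›, RegLoc.Serre.isIntegrallyClosed_of_depth hdep fun q _ hq => (hloc q hq).2⟩

end Groth.Agent.CIntCI
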